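import Groth.Agent.CurveRR.SmoothPt
import Groth.Agent.CurveRR.Zero
import Groth.Agent.CurveRR.Curve
import Groth.Agent.S2420
import Groth.Agent.ParaFLib.Ext

/-!
The degree of a point with discrete valuation local ring on a proper curve over an Artinian ring.
-/

set_option autoImplicit false
set_option backward.isDefEq.respectTransparency false
set_option backward.isDefEq.respectTransparency.types false
set_option linter.style.haveILetI false

universe u

open CategoryTheory CategoryTheory.Limits AlgebraicGeometry TopologicalSpace Opposite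
open Groth.Agent.CohFinite
open Groth.Agent.QC (res resO res_res res_self res_smul section_eq_of_locally)
open TMul (IsGen tm)

noncomputable section

namespace Groth.Agent.DvrPoint

/-- The ideal of a closed point whose local ring is a discrete valuation ring is invertible. -/
theorem isInvertible_idealMod {X : Scheme.{u}} [IsLocallyNoetherian X] {x : X} (hx : IsClosed ({x} : Set X))
    [IsDomain (X.presheaf.stalk x)] [IsDiscreteValuationRing (X.presheaf.stalk x)] :
    PicF.IsInvertible (ClSub.idealMod (Scheme.IdealSheafData.vanishingIdeal ⟨{x}, hx⟩)) := by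
  refine (Groth.Agent.S8914.result _).mpr (Groth.Agent.S1570.result X _ fun x' hx' U hxU => ?_)
  obtain rfl : x' = x := by
    have h : x' ∈ ((Scheme.IdealSheafData.vanishingIdeal ⟨{x}, hx⟩).support : Set X) := hx'
    simpa using h
  letI : Algebra Γ(X, U.1) (X.presheaf.stalk x') := (X.presheaf.germ U.1 x' hxU).hom.toAlgebra
  haveI := U.2.isLocalization_stalk ⟨x', hxU⟩
  let q := U.2.primeIdealOf ⟨x', hxU⟩
  have hid : (Scheme.IdealSheafData.vanishingIdeal ⟨{x'}, hx⟩).ideal U = q.asIdeal := by
    rw [Scheme.IdealSheafData.vanishingIdeal_ideal]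
    show PrimeSpectrum.vanishingIdeal (U.2.fromSpec ⁻¹' (({x'} : Set X))) = q.asIdeal
    rw [show U.2.fromSpec ⁻¹' (({x'} : Set X)) = {q} from ?_, PrimeSpectrum.vanishingIdeal_singleton]
    ext p
    simp only [Set.mem_preimage, Set.mem_singleton_iff]
    exact ⟨fun h => U.2.fromSpec.isOpenEmbedding.injective (h.trans (U.2.fromSpec_primeIdealOf ⟨x', hxU⟩).symm),
      fun h => h ▸ U.2.fromSpec_primeIdealOf ⟨x', hxU⟩⟩
  have hmap : ((Scheme.IdealSheafData.vanishingIdeal ⟨{x'}, hx⟩).ideal U).map (X.presheaf.germ U.1 x' hxU).hom =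
      IsLocalRing.maximalIdeal (X.presheaf.stalk x') := by
    rw [hid, ← IsLocalization.AtPrime.under_maximalIdeal (X.presheaf.stalk x') q.asIdeal]
    exact IsLocalization.map_under q.asIdeal.primeCompl (X.presheaf.stalk x') _
  obtain ⟨ϖ, hϖ⟩ := IsDiscreteValuationRing.exists_irreducible (X.presheaf.stalk x')
  exact ⟨ϖ, mem_nonZeroDivisors_of_ne_zero hϖ.ne_zero, hmap.trans hϖ.maximalIdeal_eq⟩

variable {X : Scheme.{u}}

/-- Sections of a module living on a closed set `S` are determined near `S`. -/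
theorem res_bijective {G : X.Modules} {S : Set X} (hS : IsClosed S) (hG : CurveRR.SuppIn G S)
    {U : X.Opens} (hSU : S ⊆ U) : Function.Bijective (res G (le_top : U ≤ ⊤)) := by
  refine ⟨(injective_iff_map_eq_zero _).2 fun s hs => section_eq_of_locally fun y _ => ?_, fun t => ?_⟩
  · by_cases hy : y ∈ S
    · exact ⟨U, le_top, hSU hy, hs.trans (map_zero _).symm⟩
    · exact ⟨⟨Sᶜ, hS.isOpen_compl⟩, le_top, hy, (hG _ _ fun z hz => hz).trans (map_zero _).symm⟩
  · let V : Option Unit → X.Opens := fun o => o.elim ⟨Sᶜ, hS.isOpen_compl⟩ fun _ => U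
    let f : ∀ o, Γ(G, V o) := fun o => match o with
      | none => 0
      | some _ => t
    obtain ⟨a, ha, -⟩ := TopCat.Sheaf.existsUnique_gluing' (Groth.Agent.QC.abSheaf G) V ⊤
      (fun o => homOfLE le_top) (fun y _ => Opens.mem_iSup.mpr (by
        by_cases hy : y ∈ S
        · exact ⟨some (), hSU hy⟩
        · exact ⟨none, hy⟩)) f (fun o o' => by
        suffices key : ∀ (P : X.Opens) (h1 : P ≤ V o) (h2 : P ≤ V o'), res G h1 (f o) = res G h2 (f o') from
          key _ inf_le_left inf_le_right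
        intro P h1 h2
        rcases o with _ | _
        · exact (hG P _ fun z hz => h1 hz).trans (hG P (res G h2 (f o')) fun z hz => h1 hz).symm
        · rcases o' with _ | _
          · exact (hG P _ fun z hz => h2 hz).trans (hG P (res G h2 (f none)) fun z hz => h2 hz).symm
          · rfl)
    exact ⟨a, ha (some ())⟩

variable (A : Type u) [CommRing A] [X.Over (Spec (CommRingCat.of A))]

/-- `Γ(Q ⊗ L) ≅ Γ(Q)` for `Q` living on a closed set near which `L` is trivial. -/
theorem length_h0_tensor {Q L : X.Modules} {S : Set X} (hS : IsClosed S) (hQ : CurveRR.SuppIn Q S)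
    {U : X.Opens} {g : Γ(L, U)} (hg : IsGen g) (hSU : S ⊆ U) :
    Module.length A (Coh.HH X (CohB1.tensorMod Q L) 0) = Module.length A (Coh.HH X Q 0) := by
  have hb := res_bijective hS hQ hSU
  have hb' := res_bijective hS (CurveRR.suppIn_tensor hQ L) hSU
  have htm : Function.Bijective fun m : Γ(Q, U) => tm m g := by
    simpa only [res_self] using TMul.tm_bijective (M := Q) hg U le_rfl
  let e : Γ(Q, ⊤) ≃+ Γ(CohB1.tensorMod Q L, ⊤) :=
    ((AddEquiv.ofBijective (res Q (le_top : U ≤ ⊤)) hb).trans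
      (AddEquiv.ofBijective (AddMonoidHom.mk' (fun m : Γ(Q, U) => tm m g) fun a b => TMul.tm_add a b g) htm)).trans
      (AddEquiv.ofBijective (res (CohB1.tensorMod Q L) (le_top : U ≤ ⊤)) hb').symm
  have he : ∀ s, res _ (le_top : U ≤ ⊤) (e s) = tm (res Q le_top s) g := fun s =>
    (AddEquiv.ofBijective (res (CohB1.tensorMod Q L) (le_top : U ≤ ⊤)) hb').apply_symm_apply _
  have hsmul : ∀ (c : Γ(X, ⊤)) (s : Γ(Q, ⊤)), e (c • s) = c • e s := fun c s => hb'.1 (by
    rw [he, res_smul, res_smul, he, TMul.smul_tm])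
  let eA : ((CohIII.globalSectionsA A).obj Q : Type u) ≃ₗ[A]
      ((CohIII.globalSectionsA A).obj (CohB1.tensorMod Q L) : Type u) :=
    { (e : ((CohIII.globalSectionsA A).obj Q : Type u) ≃+
        ((CohIII.globalSectionsA A).obj (CohB1.tensorMod Q L) : Type u)) with
      map_smul' := fun a s => hsmul _ s }
  exact (((W7Cech.gsH0L A Q).symm.trans eA).trans (W7Cech.gsH0L A _)).length_eq.symm

theorem main (k : Type u) [CommRing k] [IsArtinianRing k] (X : Scheme.{u}) [X.Over (Spec (CommRingCat.of k))]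
    [IsProper (X ↘ Spec (CommRingCat.of k))] (hdim : topologicalKrullDim X ≤ 1) (x : X)
    (hx : IsClosed ({x} : Set X)) [IsDomain (X.presheaf.stalk x)] [IsDiscreteValuationRing (X.presheaf.stalk x)]
    (L : X.Modules)
    (hL : ClSub.IsInverseOf L (ClSub.idealMod (Scheme.IdealSheafData.vanishingIdeal ⟨{x}, hx⟩))) :
    ((Module.length k (Coh.HH X L 0)).toNat : ℤ) - ((Module.length k (Coh.HH X L 1)).toNat : ℤ)
      - (((Module.length k (Coh.HH X (Coh.structureModule X) 0)).toNat : ℤ)
        - ((Module.length k (Coh.HH X (Coh.structureModule X) 1)).toNat : ℤ)) =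
      ((Module.length k (Coh.HH X
        (ClSub.quotMod (Scheme.IdealSheafData.vanishingIdeal ⟨{x}, hx⟩)) 0)).toNat : ℤ) := by
  haveI : IsLocallyNoetherian (Spec (CommRingCat.of k)) := inferInstance
  haveI : IsLocallyNoetherian X := LocallyOfFiniteType.isLocallyNoetherian (X ↘ Spec (CommRingCat.of k))
  haveI : CompactSpace X := QuasiCompact.compactSpace_of_compactSpace (X ↘ Spec (CommRingCat.of k))
  haveI : IsNoetherian X := ⟨⟩
  set I := Scheme.IdealSheafData.vanishingIdeal (⟨{x}, hx⟩ : TopologicalSpace.Closeds X) with hI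
  have hIinv : PicF.IsInvertible (ClSub.idealMod I) := isInvertible_idealMod hx
  obtain ⟨J, hJ, ⟨eJ⟩⟩ := W7Hull.exists_tensor_inverse hIinv
  obtain ⟨eL⟩ := hL
  let eLJ : J ≅ L := (TMul.leftUnitIso J).symm ≪≫ PicGrp.tensorModIso eL.symm (Iso.refl J) ≪≫
    TMul.assocIso _ _ _ ≪≫ PicGrp.tensorModIso (Iso.refl L) eJ ≪≫ SecTwist.unitorR L
  have hLinv : PicF.IsInvertible L := ParaFLib.isInvertible_of_iso eLJ hJ
  obtain ⟨hcI, hcQ⟩ := CurveRR.isCoh_idealMod I
  have hS := shortExact_tmap (L := L) hLinv (CurveRR.ideal_shortExact I)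
  have hsupp : CohB1.support (ClSub.quotMod I) ⊆ ({x} : Set X) := by
    refine (CurveRR.support_quotMod I).trans fun y hy => ?_
    simpa [hI] using hy
  have hzd : topologicalKrullDim ({x} : Set X) ≤ 0 := topologicalKrullDim_zero_of_discreteTopology _
  have hQvan : ∀ i, 1 ≤ i → Subsingleton (Coh.HH X (CohB1.tensorMod (ClSub.quotMod I) L) i) :=
    Groth.Agent.SuppZero.subsingleton_hh_of_supported hx hzd _ fun y hy =>
      Groth.Agent.SuppZero.notMem_support_tensorMod _ L hLinv fun h => hy (hsupp h)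
  have hvan : ∀ (F : X.Modules) (i : ℕ), 1 < i → Subsingleton (Coh.HH X F i) := fun F i hi =>
    Groth.Agent.S0458.result (X := X.toPresheafedSpace.carrier) 1 hdim (Coh.toAb F) i (by omega)
  have h := Groth.Agent.S2420.result k X _ hS (isCoh_tensor hcI hLinv)
    (isCoh_tensor RefStalk.isCoh_structureModule hLinv) (isCoh_tensor hcQ hLinv) 1
    fun i hi => ⟨hvan _ i hi, hvan _ i hi, hvan _ i hi⟩
  simp only [Finset.sum_range_succ, Finset.sum_range_zero, zero_add, pow_zero, one_mul, pow_one, neg_mul] at h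
  let l : X.Modules → ℕ → ℕ∞ := fun F i => Module.length k (Coh.HH X F i)
  have hiso : ∀ {F G : X.Modules} (_ : F ≅ G) (i : ℕ), Module.length k (Coh.HH X F i) = Module.length k (Coh.HH X G i) :=
    fun e i => (CohFinite.hhEquiv k e i).length_eq
  obtain ⟨U, g, hxU, hg⟩ := TMul.exists_isGen hLinv x
  haveI := hQvan 1 le_rfl
  rw [hiso (TMul.commIso (ClSub.idealMod I) L ≪≫ eL) 0, hiso (TMul.commIso (ClSub.idealMod I) L ≪≫ eL) 1,
    hiso (TMul.leftUnitIso L) 0, hiso (TMul.leftUnitIso L) 1,
    length_h0_tensor k hx (CurveRR.suppIn_of_subset hsupp) hg (Set.singleton_subset_iff.mpr hxU),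
    Module.length_eq_zero_iff.mpr (hQvan 1 le_rfl)] at h
  simp only [ENat.toNat_zero, Nat.cast_zero] at h
  omega

end Groth.Agent.DvrPoint
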